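import Cfsg.Agent.H588.F4.Iden
import Cfsg.Agent.H240.F4.Gen

/-!
# `²E₆(2)`: the Levi subgroup of `P₄` is `Ω₈⁻(2)` (helper588, row F4 of S2491)
-/

set_option autoImplicit false

namespace Cfsg.Agent.H588.F4

open Cfsg Cfsg.Lie Subgroup
open CoxeterSystem Cfsg.Agent.ChevalleyStructure.CoxeterGeom Cfsg.Agent.Tits.Roots Cfsg.Agent.Tits.Core
  Cfsg.Agent.Nodes Cfsg.Agent.Nodes.Reps Cfsg.Agent.Nodes.BNOf Cfsg.Agent.Nodes.RGDLib Cfsg.Agent.Nodes.Bruhat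
  Cfsg.Agent.Nodes.OppDec Cfsg.Agent.Nodes.LeviDec Cfsg.Agent.Nodes.StabComb
open Cfsg.Agent.ChevalleyStructure Cfsg.Agent.ChevalleyStructure.TwE6Basic
open Cfsg.Agent.H231.QF (KK X P Lv j4 cs)
open Cfsg.Agent.H590.F4 (V2)
open Cfsg.Agent.H181.O8m (V q O8 dec)

universe u

/-! ### The eight generators -/

/-- coordinates -/
def mk (a1 a2 a3 b1 b2 b3 z1 z2 : ZMod 2) : V := Sum.elim (Sum.elim ![a1, a2, a3] ![b1, b2, b3]) ![z1, z2]

/-- the generators -/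
def G (k : Fin 8) (v : V) : V :=
  let a1 := v (.inl (.inl 0)); let a2 := v (.inl (.inl 1)); let a3 := v (.inl (.inl 2))
  let b1 := v (.inl (.inr 0)); let b2 := v (.inl (.inr 1)); let b3 := v (.inl (.inr 2))
  let z1 := v (.inr 0); let z2 := v (.inr 1)
  ![mk a1 (a2 + a1) a3 (b1 + b2) b2 b3 z1 z2, mk (a1 + a2) a2 a3 b1 (b2 + b1) b3 z1 z2,
    mk a1 a2 (a3 + a2) b1 (b2 + b3) b3 z1 z2, mk a1 (a2 + a3) a3 b1 b2 (b3 + b2) z1 z2,
    mk a1 a2 a3 b1 b2 (b3 + z2 + a3) (z1 + a3) z2, mk a1 a2 a3 b1 b2 (b3 + z1 + z2 + a3) (z1 + a3) (z2 + a3),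
    mk a1 a2 (a3 + z2 + b3) b1 b2 b3 (z1 + b3) z2, mk a1 a2 (a3 + z1 + b3) b1 b2 b3 z1 (z2 + b3)] k

section

variable {F : Type u} [Field F] [CharP F 2] {w : F} (hw : w ^ 2 + w + 1 = 0)

/-- the generators in the general linear group -/
noncomputable def gx (w : F) : Fin 8 → GL chevE6.Idx F :=
  ![x 46 1, x 25 1, x 39 1, x 32 1, x 42 1 * x 37 (1 ^ 2), x 42 w * x 37 (w ^ 2), x 29 1 * x 34 (1 ^ 2),
    x 29 w * x 34 (w ^ 2)]

theorem conj_one (r : ℕ) (i j : Fin 8) (h : (r, i, j) ∈ tab) (t : F) (c : Fin 8 → F) :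
    x r t * Pc c * (x r t)⁻¹ = Pc (Am (r, i, j) t c) := conj_x two_zero h t c

theorem conj_two (r s : ℕ) (i j i' j' : Fin 8) (h : (r, i, j) ∈ tab) (h' : (s, i', j') ∈ tab) (t t' : F)
    (c : Fin 8 → F) : (x r t * x s t') * Pc c * (x r t * x s t')⁻¹ = Pc (Am (r, i, j) t (Am (s, i', j') t' c)) := by
  have e : (x r t * x s t') * Pc c * (x r t * x s t')⁻¹ = x r t * (x s t' * Pc c * (x s t')⁻¹) * (x r t)⁻¹ := by group
  rw [e, conj_one s i' j' h', conj_one r i j h]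

omit [CharP F 2] in
theorem Am_coord (r : ℕ) (i j : Fin 8) (t : F) (c : Fin 8 → F) (l : Fin 8) :
    Am (r, i, j) t c l = c l + (if l = j then t * c i else 0) + (if l = Fin.rev i then t * c (Fin.rev j) else 0) := by
  rw [Am_apply, Pi.add_apply, Pi.add_apply, Pi.single_apply, Pi.single_apply]

theorem Ph0 (v : V) : Ph w v 0 = io (v (.inl (.inl 0))) := rfl
theorem Ph1 (v : V) : Ph w v 1 = io (v (.inl (.inl 1))) := rfl
theorem Ph2 (v : V) : Ph w v 2 = io (v (.inl (.inl 2))) := rfl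
theorem Ph3 (v : V) : Ph w v 3 = io (v (.inr 0)) + io (v (.inr 1)) * w := rfl
theorem Ph4 (v : V) : Ph w v 4 = io (v (.inr 0)) + io (v (.inr 1)) * w ^ 2 := rfl
theorem Ph5 (v : V) : Ph w v 5 = io (v (.inl (.inr 2))) := rfl
theorem Ph6 (v : V) : Ph w v 6 = io (v (.inl (.inr 1))) := rfl
theorem Ph7 (v : V) : Ph w v 7 = io (v (.inl (.inr 0))) := rfl

theorem two_io (a : ZMod 2) : (io a : F) + io a = 0 := by
  have h2 := two_zero (F := F)
  linear_combination io a * h2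

include hw

theorem conj_gx (k : Fin 8) (v : V) : gx w k * Pc (Ph w v) * (gx w k)⁻¹ = Pc (Ph w (G k v)) := by
  have h2 := two_zero (F := F)
  have h3 := w_cube hw
  fin_cases k
  · show x 46 1 * Pc (Ph w v) * (x 46 1)⁻¹ = _
    rw [conj_one 46 0 1 (by decide)]
    congr 1
    funext l
    rw [Am_coord]
    fin_cases l <;> simp [Ph0, Ph1, Ph2, Ph3, Ph4, Ph5, Ph6, Ph7, G, mk, Fin.rev]
  · show x 25 1 * Pc (Ph w v) * (x 25 1)⁻¹ = _
    rw [conj_one 25 1 0 (by decide)]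
    congr 1
    funext l
    rw [Am_coord]
    fin_cases l <;> simp [Ph0, Ph1, Ph2, Ph3, Ph4, Ph5, Ph6, Ph7, G, mk, Fin.rev]
  · show x 39 1 * Pc (Ph w v) * (x 39 1)⁻¹ = _
    rw [conj_one 39 1 2 (by decide)]
    congr 1
    funext l
    rw [Am_coord]
    fin_cases l <;> simp [Ph0, Ph1, Ph2, Ph3, Ph4, Ph5, Ph6, Ph7, G, mk, Fin.rev]
  · show x 32 1 * Pc (Ph w v) * (x 32 1)⁻¹ = _
    rw [conj_one 32 2 1 (by decide)]
    congr 1
    funext l
    rw [Am_coord]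
    fin_cases l <;> simp [Ph0, Ph1, Ph2, Ph3, Ph4, Ph5, Ph6, Ph7, G, mk, Fin.rev]
  · show (x 42 1 * x 37 (1 ^ 2)) * Pc (Ph w v) * (x 42 1 * x 37 (1 ^ 2))⁻¹ = _
    rw [conj_two 42 37 2 4 2 3 (by decide) (by decide)]
    congr 1
    funext l
    simp only [Am_coord]
    fin_cases l <;> simp [Ph0, Ph1, Ph2, Ph3, Ph4, Ph5, Ph6, Ph7, G, mk, Fin.rev] <;>
    (first
      | ring1
      | linear_combination io (v (.inr 1)) * hw + (io (v (.inr 0)) - io (v (.inr 1))) * h2)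
  · show (x 42 w * x 37 (w ^ 2)) * Pc (Ph w v) * (x 42 w * x 37 (w ^ 2))⁻¹ = _
    rw [conj_two 42 37 2 4 2 3 (by decide) (by decide)]
    congr 1
    funext l
    simp only [Am_coord]
    fin_cases l <;> simp [Ph0, Ph1, Ph2, Ph3, Ph4, Ph5, Ph6, Ph7, G, mk, Fin.rev] <;>
    (first
      | ring1
      | linear_combination io (v (.inl (.inl 2))) * hw - io (v (.inl (.inl 2))) * (w + 1) * h2
      | linear_combination -io (v (.inl (.inl 2))) * hw + io (v (.inl (.inl 2))) * w * h2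
      | linear_combination io (v (.inr 0)) * hw - io (v (.inr 0)) * h2 + io (v (.inr 1)) * w * h3 +
          io (v (.inr 1)) * hw - io (v (.inr 1)) * h2 + io (v (.inl (.inl 2))) * h3)
  · show (x 29 1 * x 34 (1 ^ 2)) * Pc (Ph w v) * (x 29 1 * x 34 (1 ^ 2))⁻¹ = _
    rw [conj_two 29 34 4 2 3 2 (by decide) (by decide)]
    congr 1
    funext l
    simp only [Am_coord]
    fin_cases l <;> simp [Ph0, Ph1, Ph2, Ph3, Ph4, Ph5, Ph6, Ph7, G, mk, Fin.rev] <;>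
    (first
      | ring1
      | linear_combination io (v (.inr 1)) * hw + (io (v (.inr 0)) - io (v (.inr 1))) * h2)
  · show (x 29 w * x 34 (w ^ 2)) * Pc (Ph w v) * (x 29 w * x 34 (w ^ 2))⁻¹ = _
    rw [conj_two 29 34 4 2 3 2 (by decide) (by decide)]
    congr 1
    funext l
    simp only [Am_coord]
    fin_cases l <;> simp [Ph0, Ph1, Ph2, Ph3, Ph4, Ph5, Ph6, Ph7, G, mk, Fin.rev] <;>
    (first
      | ring1
      | linear_combination io (v (.inr 0)) * hw - io (v (.inr 0)) * h2 + io (v (.inr 1)) * w ^ 3 * h2 +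
          io (v (.inl (.inr 2))) * h3)

end

/-! ### The generators are in the Levi subgroup -/

section

variable {F : Type u} [Field F] [Fintype F] [CharP F 2] {w : F} (hw : w ^ 2 + w + 1 = 0) (h4 : ∀ t : F, t ^ 4 = t)
  {φ : F →+* F} (hφ : ∀ t, φ t = t ^ 2)

include h4 hφ

omit [Fintype F] [CharP F 2] in
theorem mem_Lv {z : Fin 4 → ℤ} (hz : IsRoot cs RGDTwE6.isCartan z) (h3 : z 3 = 0) {g : GL chevE6.Idx F}
    (hg : g ∈ twistedE6 F 2) (hr : g ∈ Cfsg.Agent.ChevalleyStructure.TwistedU.rspan (x (K := F))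
      {k | k < 72 ∧ RGDFold.V chevE6 RGDTwE6.J k = z}) : (⟨g, hg⟩ : KK F) ∈ Lv φ j4 := by
  have h1 : (⟨g, hg⟩ : KK F) ∈ X φ z := mem_RR (twisted_le_fix φ hφ (hqq h4) hg) hr
  refine X_le_LJ ⟨hz, fun k hk => ?_⟩ h1
  have h5 : k = 3 := by
    by_contra h
    exact hk h
  rw [h5]
  exact h3

omit [Fintype F] [CharP F 2] h4 hφ in
theorem V_gen : ∀ r ∈ [46, 25, 39, 32, 42, 37, 29, 34], r < 72 ∧ RGDFold.V chevE6 RGDTwE6.J r 3 = 0 := by decide +kernel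

omit [Fintype F] [CharP F 2] in
theorem gx_mem (k : Fin 8) : ∃ h : gx w k ∈ twistedE6 F 2, (⟨gx w k, h⟩ : KK F) ∈ Lv φ j4 := by
  have single : ∀ r : ℕ, r ∈ [46, 25, 39, 32] → ∃ h : x r (1 : F) ∈ twistedE6 F 2, (⟨x r 1, h⟩ : KK F) ∈ Lv φ j4 := by
    intro r hr
    have h1 : r ∈ [46, 25, 39, 32, 42, 37, 29, 34] := by
      simp only [List.mem_cons, List.not_mem_nil, or_false] at hr ⊢
      tauto
    have h72 := V_gen r h1
    refine ⟨single_mem (by norm_num) hr, mem_Lv h4 hφ (RGDTwComE6.isRoot_V h72.1) h72.2 _ (x_mem_rs2 h72.1 rfl _)⟩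
  have pair : ∀ (r s : ℕ) (t : F), (r, s) ∈ [(42, 37), (29, 34)] → ∃ h : x r t * x s (t ^ 2) ∈ twistedE6 F 2,
      (⟨x r t * x s (t ^ 2), h⟩ : KK F) ∈ Lv φ j4 := by
    intro r s t hr
    have h1 : r < 72 ∧ s < 72 ∧ RGDFold.V chevE6 RGDTwE6.J r 3 = 0 ∧
        RGDFold.V chevE6 RGDTwE6.J s = RGDFold.V chevE6 RGDTwE6.J r := by
      have : ∀ p ∈ [(42, 37), (29, 34)], p.1 < 72 ∧ p.2 < 72 ∧ RGDFold.V chevE6 RGDTwE6.J p.1 3 = 0 ∧
        RGDFold.V chevE6 RGDTwE6.J p.2 = RGDFold.V chevE6 RGDTwE6.J p.1 := by decide +kernel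
      exact this _ hr
    refine ⟨pair_mem t (rs := (r, s)) ?_, mem_Lv h4 hφ (RGDTwComE6.isRoot_V h1.1) h1.2.2.1 _
      (mul_mem (x_mem_rs2 h1.1 rfl _) (x_mem_rs2 h1.2.1 h1.2.2.2 _))⟩
    simp only [List.mem_cons, List.not_mem_nil, or_false] at hr ⊢
    tauto
  fin_cases k
  · exact single 46 (by decide)
  · exact single 25 (by decide)
  · exact single 39 (by decide)
  · exact single 32 (by decide)
  · exact pair 42 37 1 (by decide)
  · exact pair 42 37 w (by decide)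
  · exact pair 29 34 1 (by decide)
  · exact pair 29 34 w (by decide)

end

/-- the columns -/
theorem G_dec : ∀ k : Fin 8, ∀ i : Fin 8, G k (dec (2 ^ i.1)) = dec (Cfsg.Agent.H240.F4.c k.1 i.1) := by decide +kernel

theorem dec_b1 : dec 16 = mk 0 0 0 1 0 0 0 0 := by decide +kernel

theorem Ph_b1 {F : Type u} [Field F] [CharP F 2] (w : F) : Ph w (dec 16) = Pi.single 7 (1 : F) := by
  rw [dec_b1]
  funext l
  fin_cases l <;> simp [Ph0, Ph1, Ph2, Ph3, Ph4, Ph5, Ph6, Ph7, mk]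

/-- **The action of the Levi subgroup of `P₄` on the layer.** -/
theorem exists_model {F : Type u} [Field F] [Fintype F] (hF : Fintype.card F = 4) {φ : F →+* F}
    (hφ : ∀ t, φ t = t ^ 2) : ∃ (p : Multiplicative V →* KK F) (ψ : ↥(Lv φ j4) →* ↥O8), Function.Injective p ∧
      p.range = V2 φ ∧ (∀ (g : ↥(Lv φ j4)) (v : V), (g : KK F) * p (.ofAdd v) * (g : KK F)⁻¹ =
        p (.ofAdd ((ψ g : V ≃ₗ[ZMod 2] V) v))) ∧ (∀ g : ↥O8, Cfsg.Agent.H240.F4.IsG g → g ∈ ψ.range) ∧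
      ((p (.ofAdd (dec 16)) : KK F) : GL chevE6.Idx F) = x 71 1 := by
  have : CharP F 2 := char_two hF
  have h4 := pow_four hF
  obtain ⟨w, hw⟩ := exists_w hF
  obtain ⟨ψ, hψ⟩ := exists_psi (pp_injective hw h4 hφ) (L := Lv φ j4) fun g hg v => act_pp hw h4 hφ hg v
  refine ⟨pp hw h4 hφ, ψ, pp_injective hw h4 hφ, range_pp hw h4 hφ, hψ, ?_, ?_⟩
  · rintro g ⟨k, hk, hg⟩
    obtain ⟨h1, h2⟩ := gx_mem (w := w) h4 hφ ⟨k, hk⟩
    refine ⟨⟨_, h2⟩, ?_⟩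
    apply Subtype.ext
    apply Cfsg.Agent.H181.O8m.lin_ext
    intro i hi
    rw [hg i hi]
    have h3 := hψ ⟨_, h2⟩ (dec (2 ^ i))
    have h5 : pp hw h4 hφ (.ofAdd ((ψ ⟨_, h2⟩ : V ≃ₗ[ZMod 2] V) (dec (2 ^ i)))) =
        pp hw h4 hφ (.ofAdd (G ⟨k, hk⟩ (dec (2 ^ i)))) := by
      rw [← h3]
      apply Subtype.ext
      rw [Subgroup.coe_mul, Subgroup.coe_mul, Subgroup.coe_inv, coe_pp, coe_pp]
      exact conj_gx hw ⟨k, hk⟩ _
    have h6 := pp_injective hw h4 hφ h5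
    exact (Multiplicative.ofAdd.injective h6).trans (G_dec ⟨k, hk⟩ ⟨i, hi⟩)
  · rw [coe_pp, Ph_b1, Pc_single, show top 7 = 71 from rfl]

end Cfsg.Agent.H588.F4
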